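/- A counting criterion for strong closure. -/
import Mathlib
import Cfsg.Agent.TECH.SylIn

set_option autoImplicit false
set_option maxHeartbeats 200000

namespace CL.VM
open Subgroup CL.MSS

variable {G : Type*} [Group G] [Finite G]

namespace SCx

/-- the elements `b` of `R` with `[b, d] ∈ A` -/
def cs (R A : Subgroup G) (hn : R ≤ normalizer (A : Set G)) (d : G) : Subgroup G where
  carrier := {b | b ∈ R ∧ b * d * b⁻¹ * d⁻¹ ∈ A}
  one_mem' := ⟨one_mem _, by simp⟩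
  mul_mem' := by
    rintro b c ⟨hb, h1⟩ ⟨hc, h2⟩
    refine ⟨mul_mem hb hc, ?_⟩
    convert mul_mem (conj_mem_of_normalizes hn hb h2) h1 using 1
    group
  inv_mem' := by
    rintro b ⟨hb, h1⟩
    refine ⟨inv_mem hb, ?_⟩
    convert conj_mem_of_normalizes' hn hb (inv_mem h1) using 1
    group

omit [Finite G] in
theorem mem_cs {R A : Subgroup G} {hn : R ≤ normalizer (A : Set G)} {d b : G} :
    b ∈ cs R A hn d ↔ b ∈ R ∧ b * d * b⁻¹ * d⁻¹ ∈ A := Iff.rfl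

theorem card_cs {A W R : Subgroup G} {d : G} (hAW : A ≤ W) (hn : R ≤ normalizer (A : Set G))
    (hW : ∀ b ∈ R, b * d * b⁻¹ * d⁻¹ ∈ W) :
    Nat.card R * Nat.card A ≤ Nat.card (cs R A hn d) * Nat.card W := by
  set H := cs R A hn d
  have hH : H ≤ R := fun b hb => hb.1
  let f : R ⧸ H.subgroupOf R → W ⧸ A.subgroupOf W := fun q =>
    QuotientGroup.mk ⟨((q.out : G) * d * (q.out : G)⁻¹ * d⁻¹)⁻¹, inv_mem (hW _ q.out.2)⟩
  have hf : Function.Injective f := fun q q' e => by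
    have e1 := QuotientGroup.eq.1 e
    rw [← q.out_eq', ← q'.out_eq', QuotientGroup.eq]
    refine ⟨(q.out⁻¹ * q'.out).2, ?_⟩
    convert conj_mem_of_normalizes' hn q.out.2 (inv_mem (mem_subgroupOf.1 e1)) using 1
    simp only [subtype_apply, coe_mul, coe_inv]
    group
  have h1 : (H.subgroupOf R).index ≤ (A.subgroupOf W).index := Nat.card_le_card_of_injective f hf
  have h2 := (H.subgroupOf R).card_mul_index
  have h3 := (A.subgroupOf W).card_mul_index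
  rw [Nat.card_congr (subgroupOfEquivOfLe hH).toEquiv] at h2
  rw [Nat.card_congr (subgroupOfEquivOfLe hAW).toEquiv] at h3
  rw [← h2, ← h3, mul_assoc, mul_comm (Nat.card A)]
  exact Nat.mul_le_mul_left _ (Nat.mul_le_mul_right _ h1)

theorem norm_of {Z A R : Subgroup G} (hZA : Z ≤ A) (hAR : A ≤ R)
    (hc : ∀ a ∈ R, ∀ b ∈ R, a * b * a⁻¹ * b⁻¹ ∈ Z) : R ≤ normalizer (A : Set G) := fun a ha =>
  mem_normalizer_fintype fun b hb => by
    simpa using mul_mem (hZA (hc a ha b (hAR hb))) hb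

end SCx
open SCx

/-- PROOF. `b ↦ b d b⁻¹ d⁻¹` induces an injection of `R / H` into `A \ W`, `H` the set in question. -/
theorem cnt {Z A W R : Subgroup G} {d : G} (hZA : Z ≤ A) (hAW : A ≤ W) (hWR : W ≤ R)
    (hc : ∀ a ∈ R, ∀ b ∈ R, a * b * a⁻¹ * b⁻¹ ∈ Z) (hd : d ∈ normalizer (R : Set G))
    (hdZ : d ∈ normalizer (Z : Set G)) (hW : ∀ b ∈ R, b * d * b⁻¹ * d⁻¹ ∈ W) :
    Nat.card R * Nat.card A ≤ {b | b ∈ R ∧ b * d * b⁻¹ * d⁻¹ ∈ A}.ncard * Nat.card W :=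
  have _ := hd
  have _ := hdZ
  card_cs hAW (norm_of hZA (hAW.trans hWR) hc) hW

/-- PROOF. Weak closure, then a pair `(R₁, R₂)` of conjugates with `R₂ ⊓ N(R₁) ≰ R₁` and
`(|R₁ ⊓ R₂|, |R₂ ⊓ N(R₁)|)` lexicographically maximal. -/
theorem sc {Y Z R S : Subgroup G} (hS : SylIn 2 S Y) (hRS : R ≤ S) (hN : S ≤ normalizer (R : Set G))
    (hZ : Y ≤ normalizer (Z : Set G)) (hZR : Z ≤ R) (hc : ∀ a ∈ R, ∀ b ∈ R, a * b * a⁻¹ * b⁻¹ ∈ Z)
    (h : ∀ g ∈ Y, (g •ᶜ R) ⊓ normalizer (R : Set G) ≤ S → ¬ (g •ᶜ R) ⊓ normalizer (R : Set G) ≤ R →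
      ∃ d ∈ (g •ᶜ R) ⊓ normalizer (R : Set G), d ∉ R ∧
        Nat.card ((g •ᶜ R) ⊓ normalizer (R : Set G) : Subgroup G) <
          {b | b ∈ R ∧ b * d * b⁻¹ * d⁻¹ ∈ g •ᶜ R}.ncard) :
    ∀ r ∈ R, ∀ g ∈ Y, g * r * g⁻¹ ∈ S → g * r * g⁻¹ ∈ R := by
  have hRY : R ≤ Y := hRS.trans hS.le
  have hR2 : IsPGroup 2 R := hS.pgroup.to_le hRS
  have cY : ∀ g ∈ Y, g •ᶜ R ≤ Y := fun g hg => cj_le_of_mem hRY hg
  have wc : ∀ g ∈ Y, g •ᶜ R ≤ S → g •ᶜ R = R := by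
    intro g hg hle
    have e : (g •ᶜ R) ⊓ normalizer (R : Set G) = g •ᶜ R := inf_of_le_left (hle.trans hN)
    by_contra hne
    obtain ⟨d, -, -, hd⟩ := h g hg (inf_le_left.trans hle) (by rw [e]; exact fun h => hne (cj_eq_of_le h))
    rw [e, card_cj] at hd
    exact absurd (Set.ncard_le_ncard (t := (R : Set G)) fun b hb => hb.1) (not_le.2 hd)
  have nm : ∀ g ∈ Y, ∀ P ≤ Y, IsPGroup 2 P → g •ᶜ R ≤ P → P ≤ normalizer ((g •ᶜ R : Subgroup G) : Set G) := by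
    intro g hg P hP h2 hle
    obtain ⟨y, hy, e⟩ := hS.exists_conj_le h2 hP
    have e1 := wc (y * g) (mul_mem hy hg) (by rw [cj_mul]; exact (cj_mono y hle).trans e)
    rw [← cj_le_cj_iff y, cj_normalizer, ← cj_mul, e1]
    exact e.trans hN
  intro r hr g hg hs
  by_contra hnr
  let F : G × G → ℕ ×ₗ ℕ := fun p => toLex (Nat.card ((p.1 •ᶜ R) ⊓ (p.2 •ᶜ R) : Subgroup G),
    Nat.card ((p.2 •ᶜ R) ⊓ normalizer ((p.1 •ᶜ R : Subgroup G) : Set G) : Subgroup G))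
  obtain ⟨⟨a, b⟩, ⟨ha, hb, hab⟩, hmax⟩ := Set.exists_max_image
    {p : G × G | p.1 ∈ Y ∧ p.2 ∈ Y ∧ ¬ (p.2 •ᶜ R) ⊓ normalizer ((p.1 •ᶜ R : Subgroup G) : Set G) ≤ p.1 •ᶜ R}
    F (Set.toFinite _) ⟨(1, g), one_mem _, hg, by
      simp only [cj_one]; exact fun hle => hnr (hle ⟨conj_mem_cj hr, hN hs⟩)⟩
  dsimp only at ha hb hab
  obtain ⟨y, hy, hyS⟩ := hS.exists_conj_le (R := (b •ᶜ R) ⊓ normalizer ((a •ᶜ R : Subgroup G) : Set G) ⊔ a •ᶜ R)
    (isPGroup_sup_of_normalizes ((isPGroup_cj b hR2).to_inf_left) (isPGroup_cj a hR2) inf_le_right)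
    (sup_le (inf_le_left.trans (cY b hb)) (cY a ha))
  have e1 : y •ᶜ (a •ᶜ R) = R := by
    rw [← cj_mul]
    exact wc _ (mul_mem hy ha) (by rw [cj_mul]; exact (cj_mono y le_sup_right).trans hyS)
  set k := y * b
  have hk : k ∈ Y := mul_mem hy hb
  have e2 : y •ᶜ ((b •ᶜ R) ⊓ normalizer ((a •ᶜ R : Subgroup G) : Set G)) = (k •ᶜ R) ⊓ normalizer (R : Set G) := by
    rw [cj_inf, cj_normalizer, e1, cj_mul]
  have e3 : F (a, b) = toLex (Nat.card (R ⊓ (k •ᶜ R) : Subgroup G),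
      Nat.card ((k •ᶜ R) ⊓ normalizer (R : Set G) : Subgroup G)) := by
    simp only [F]
    rw [← e2, card_cj, ← card_cj y ((a •ᶜ R) ⊓ (b •ᶜ R)), cj_inf, e1, cj_mul]
  obtain ⟨d, hd, hdR, hlt⟩ := h k hk (e2 ▸ (cj_mono y le_sup_left).trans hyS) (fun hle => hab (by
    rw [← cj_le_cj_iff y, e2, e1]; exact hle))
  rw [e3] at hmax
  set R₂ := k •ᶜ R with hR₂
  have hZ2 : Z ≤ R₂ := (cj_eq_of_mem_normalizer (hZ hk)).ge.trans (cj_mono k hZR)
  have hc2 : ∀ a ∈ R₂, ∀ b ∈ R₂, a * b * a⁻¹ * b⁻¹ ∈ Z := by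
    rintro _ ⟨u, hu, rfl⟩ _ ⟨v, hv, rfl⟩
    convert conj_mem_of_normalizes hZ hk (hc u hu v hv) using 1
    simp only [MulEquiv.coe_toMonoidHom, MulAut.conj_apply]
    group
  have hnA : R ≤ normalizer ((R ⊓ R₂ : Subgroup G) : Set G) := norm_of (le_inf hZR hZ2) inf_le_left hc
  set B₁ := cs R (R ⊓ R₂) hnA d
  have hB : Nat.card (R₂ ⊓ normalizer (R : Set G) : Subgroup G) < Nat.card B₁ := by
    refine hlt.trans_le (Set.ncard_le_ncard (t := (B₁ : Set G)) fun u hu => ⟨hu.1, ?_, hu.2⟩)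
    have := mul_mem hu.1 ((mem_normalizer_iff.1 hd.2 _).1 (inv_mem hu.1))
    rwa [← mul_assoc, ← mul_assoc] at this
  have hα : Nat.card (R ⊓ R₂ : Subgroup G) ≤ Nat.card (R₂ ⊓ normalizer (R : Set G) : Subgroup G) :=
    card_le_of_le (le_inf inf_le_right (inf_le_left.trans le_normalizer))
  set A₁ := R ⊓ R₂ ⊔ zpowers d
  have hA1 : A₁ ≤ R₂ := sup_le inf_le_right (zpowers_le.2 hd.1)
  have hB1 : B₁ ≤ R := fun u hu => hu.1
  have n1 : R₂ ≤ normalizer (A₁ : Set G) := norm_of ((le_inf hZR hZ2).trans le_sup_left) hA1 hc2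
  have n2 : B₁ ≤ normalizer (A₁ : Set G) := le_normalizer_of_cj_le fun u hu => by
    rw [cj_sup, cj_eq_of_mem_normalizer (hnA hu.1), cj_zpowers]
    refine sup_le le_sup_left (zpowers_le.2 ?_)
    simpa using mul_mem (mem_sup_left hu.2 : _ ∈ A₁) (mem_sup_right (mem_zpowers d))
  obtain ⟨P, hP, hP2⟩ := exists_sylIn_ge (isPGroup_cj k hR2) (le_inf (cY k hk) n1)
  obtain ⟨c, hcY, hc1⟩ := hP.exists_le_conj (hR2.to_le hB1) (le_inf (hB1.trans hRY) n2)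
  have hck : c * k ∈ Y := mul_mem hcY.1 hk
  have n3 : B₁ ≤ normalizer (((c * k) •ᶜ R : Subgroup G) : Set G) :=
    hc1.trans (nm _ hck _ (cj_le_of_mem (hP.le.trans inf_le_left) hcY.1) (isPGroup_cj c hP.pgroup)
      (by rw [cj_mul]; exact cj_mono c hP2))
  have hA3 : A₁ ≤ (c * k) •ᶜ R := by
    rw [cj_mul, ← cj_eq_of_mem_normalizer hcY.2]; exact cj_mono c hA1
  have l1 : Nat.card (R ⊓ R₂ : Subgroup G) ≤ Nat.card (R ⊓ (c * k) •ᶜ R : Subgroup G) :=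
    card_le_of_le (le_inf inf_le_left (le_sup_left.trans hA3))
  have m1 := hmax (1, c * k) ⟨one_mem _, hck, by
    simp only [cj_one]
    exact fun hle => hdR (hle ⟨hA3 (mem_sup_right (mem_zpowers d)), hd.2⟩)⟩
  simp only [F, cj_one, Prod.Lex.toLex_le_toLex] at m1
  have m2 := hmax (c * k, 1) ⟨hck, one_mem _, by
    simp only [cj_one]
    intro hle
    have := card_le_of_le (le_inf hB1 ((le_inf hB1 n3).trans hle))
    omega⟩
  simp only [F, cj_one, Prod.Lex.toLex_le_toLex] at m2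
  have := card_le_of_le (le_inf hB1 n3)
  rw [inf_comm] at m2
  omega

end CL.VM
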