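/- Automorphisms that centralise a subgroup `2 ^ 3 : L3(2)` containing the centralisers. -/
import Cfsg.Agent.SPOR.VM.LDef
import Cfsg.Agent.S3344
import Cfsg.Agent.S2119
import Cfsg.Agent.SPOR.VM.TW
import Cfsg.Agent.SPOR.CocodeRec
import Cfsg.Agent.CLAS.L3Max4
import Cfsg.Agent.KSG.MathieuMdl

set_option autoImplicit false

namespace CL.VM
open Subgroup Cfsg CL.MSS CL.LX

/-- PROOF. `Y₀` contains an element of order 7, a 7-cycle `c`. By `S2119` `α` is conjugation by a permutation `τ`,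
with `τ ^ 2 = 1` (injectivity), commuting with `c`. So `τ` preserves the support of `c` and commutes with `c` there:
an involution commuting with a 7-cycle on 7 points fixes a point, hence all. If `τ ≠ 1` then `n = 9`, `τ` is a swap
of `a, b`, and `Y₀ ≤ C(τ)`, the stabiliser in `A9` of `{a, b}`, of order `181440 / 36 = 5040`; `1344 ∤ 5040`. -/
theorem af_alt {n : ℕ} (hn : n = 8 ∨ n = 9) {Y₀ : Subgroup (alternatingGroup (Fin n))} (hc : Nat.card Y₀ = 1344)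
    (α : MulAut (alternatingGroup (Fin n))) (h2 : α * α = 1) (h0 : ∀ a ∈ Y₀, α a = a) : α = 1 := by
  have : Fact (Nat.Prime 2) := ⟨Nat.prime_two⟩
  obtain ⟨inj, sur⟩ := Cfsg.Agent.S2119.result n (by omega) (by omega)
  obtain ⟨τ, rfl⟩ := sur α
  have t2 : τ ^ 2 = 1 := inj (by rw [pow_two, map_mul, h2, map_one])
  have c1 := card_dvd_of_le (show Y₀.map (alternatingGroup (Fin n)).subtype ≤ centralizer {τ} by
    rintro _ ⟨a, ha, rfl⟩
    exact mem_centralizer_singleton_iff.2 (mul_inv_eq_iff_eq_mul.1 (congrArg Subtype.val (h0 a ha))).symm)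
  have c2 := Equiv.Perm.cycleType_of_pow_prime_eq_one t2
  have c3 := τ.sum_cycleType_le
  rw [card_map_of_injective (subtype_injective _), hc, Equiv.Perm.nat_card_centralizer] at c1
  by_cases e : τ.cycleType.card = 0
  · rw [Equiv.Perm.card_cycleType_eq_zero.1 e, map_one]
  · generalize τ.cycleType.card = k at c2 e
    rw [c2] at c1 c3
    simp only [Multiset.sum_replicate, Multiset.prod_replicate, Multiset.toFinset_replicate, if_neg e,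
      Finset.prod_singleton, Multiset.count_replicate_self, Fintype.card_fin, smul_eq_mul] at c1 c3
    have : k = 1 ∨ k = 2 ∨ k = 3 ∨ k = 4 := by omega
    rcases hn with rfl | rfl <;> rcases this with rfl | rfl | rfl | rfl <;> exact absurd c1 (by decide)

variable {G : Type*} [Group G] [Finite G]

namespace AF
open Matrix

abbrev V3 : Type := Fin 3 → ZMod 2
abbrev M3 : Type := Matrix (Fin 3) (Fin 3) (ZMod 2)

def e0 : V3 := ![1, 0, 0]
def enc : Fin 3 → V3 := ![![0, 1, 0], ![0, 0, 1], ![0, 1, 1]]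
def dec (v : V3) : Fin 3 := if v 2 = 0 then 0 else if v 1 = 0 then 1 else 2
def tv (p q : ZMod 2) : M3 := !![1, p, q; 0, 1, 0; 0, 0, 1]

theorem all {p : M3 → Prop} (h : ∀ a b c d e f g h i : ZMod 2, p !![a, b, c; d, e, f; g, h, i]) (A : M3) : p A :=
  (eta_fin_three A).symm ▸ h _ _ _ _ _ _ _ _ _

theorem chk1 : ∀ A : M3, A *ᵥ e0 = e0 → ∀ w, w ≠ 0 → w ≠ e0 → dec (A *ᵥ enc (dec w)) = dec (A *ᵥ w) :=
  all (by decide +kernel)

theorem chk2 : ∀ A : M3, A *ᵥ e0 = e0 → (∀ i, dec (A *ᵥ enc i) = i) → ∃ p q, A = tv p q :=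
  all (by decide +kernel)

theorem chk3 : ∀ p q, tv p q *ᵥ e0 = e0 ∧ (∀ i, dec (tv p q *ᵥ enc i) = i) ∧ tv p q * tv p q = 1 ∧
    ∀ v, tv p q *ᵥ v + v = 0 ∨ tv p q *ᵥ v + v = e0 := by decide +kernel

def L4 : List (M3 × M3) :=
  [(!![0, 0, 1; 1, 0, 1; 0, 1, 0], !![1, 1, 0; 0, 0, 1; 1, 0, 0]),
   (!![0, 0, 1; 1, 0, 1; 0, 1, 1], !![1, 1, 0; 1, 0, 1; 1, 0, 0]),
   (!![0, 1, 0; 1, 1, 0; 0, 0, 1], !![1, 1, 0; 1, 0, 0; 0, 0, 1]),
   (!![0, 0, 1; 1, 1, 0; 0, 1, 1], !![1, 1, 1; 1, 0, 1; 1, 0, 0]),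
   (!![0, 0, 1; 1, 1, 1; 0, 1, 0], !![1, 1, 1; 0, 0, 1; 1, 0, 0]),
   (!![0, 1, 0; 1, 1, 1; 0, 0, 1], !![1, 1, 1; 1, 0, 0; 0, 0, 1]),
   (!![0, 0, 1; 0, 1, 1; 1, 0, 0], !![0, 0, 1; 1, 1, 0; 1, 0, 0]),
   (!![0, 0, 1; 0, 1, 0; 1, 0, 0], !![0, 0, 1; 0, 1, 0; 1, 0, 0]),
   (!![0, 0, 1; 1, 0, 0; 0, 1, 0], !![0, 1, 0; 0, 0, 1; 1, 0, 0]),
   (!![0, 0, 1; 1, 1, 0; 0, 1, 0], !![0, 1, 1; 0, 0, 1; 1, 0, 0]),
   (!![0, 1, 0; 0, 0, 1; 1, 0, 0], !![0, 0, 1; 1, 0, 0; 0, 1, 0]),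
   (!![0, 0, 1; 1, 1, 1; 0, 1, 1], !![0, 1, 1; 1, 0, 1; 1, 0, 0]),
   (!![0, 1, 0; 1, 0, 0; 0, 0, 1], !![0, 1, 0; 1, 0, 0; 0, 0, 1]),
   (!![0, 0, 1; 1, 0, 0; 0, 1, 1], !![0, 1, 0; 1, 0, 1; 1, 0, 0]),
   (!![0, 1, 0; 1, 0, 1; 0, 0, 1], !![0, 1, 1; 1, 0, 0; 0, 0, 1]),
   (!![1, 0, 0; 0, 0, 1; 0, 1, 0], !![1, 0, 0; 0, 0, 1; 0, 1, 0]),
   (!![0, 1, 0; 0, 0, 1; 1, 1, 0], !![1, 0, 1; 1, 0, 0; 0, 1, 0]),
   (!![1, 0, 0; 0, 1, 0; 0, 0, 1], !![1, 0, 0; 0, 1, 0; 0, 0, 1]),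
   (!![0, 0, 1; 0, 1, 0; 1, 0, 1], !![1, 0, 1; 0, 1, 0; 1, 0, 0]),
   (!![0, 0, 1; 0, 1, 1; 1, 0, 1], !![1, 0, 1; 1, 1, 0; 1, 0, 0]),
   (!![1, 0, 0; 0, 1, 1; 0, 0, 1], !![1, 0, 0; 0, 1, 1; 0, 0, 1])]

theorem chk4 : ∀ A : M3, A * A = 1 → A ≠ 1 → ∃ B ∈ L4, B.1 * B.2 = 1 ∧ B.1 * A * B.2 = tv 1 0 :=
  all (by decide +kernel)

theorem chk5 : ∀ v : V3, (∀ p q, tv p q *ᵥ v = v) → v = 0 ∨ v = e0 := by decide +kernel

def L6 : List (M3 × M3) :=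
  [(!![1, 0, 0; 0, 0, 1; 0, 1, 0], !![1, 0, 0; 0, 0, 1; 0, 1, 0]),
   (!![1, 0, 0; 0, 0, 1; 0, 1, 1], !![1, 0, 0; 0, 1, 1; 0, 1, 0]),
   (!![1, 0, 0; 0, 1, 0; 0, 0, 1], !![1, 0, 0; 0, 1, 0; 0, 0, 1]),
   (!![1, 0, 0; 0, 1, 0; 0, 1, 1], !![1, 0, 0; 0, 1, 0; 0, 1, 1]),
   (!![1, 0, 0; 0, 1, 1; 0, 0, 1], !![1, 0, 0; 0, 1, 1; 0, 0, 1]),
   (!![1, 0, 0; 0, 1, 1; 0, 1, 0], !![1, 0, 0; 0, 0, 1; 0, 1, 1])]

theorem chk6 : ∀ τ : Equiv.Perm (Fin 3), ∃ B ∈ L6, B.1 * B.2 = 1 ∧ B.1 *ᵥ e0 = e0 ∧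
    ∀ i, dec (B.1 *ᵥ enc i) = τ i := by decide +kernel

set_option synthInstance.maxSize 512 in
theorem chk7 : ∀ A : M3, A *ᵥ e0 = e0 → A * A * A = 1 → A ≠ 1 →
    (∀ v, A *ᵥ v = v → v = 0 ∨ v = e0) ∧ ∀ p q, tv p q * A = A * tv p q → tv p q = 1 :=
  all (by decide +kernel)

/-- coordinates -/
structure Co (Y₀ E : Subgroup G) (ι : V3 → G) (M : G → M3) : Prop where
  add : ∀ u v, ι (u + v) = ι u * ι v
  injι : Function.Injective ι
  ex : ∀ a, a ∈ E ↔ ∃ v, ι v = a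
  mul : ∀ a ∈ Y₀, ∀ b ∈ Y₀, M (a * b) = M a * M b
  one : ∀ a ∈ Y₀, M a = 1 ↔ a ∈ E
  conj : ∀ a ∈ Y₀, ∀ v, a * ι v * a⁻¹ = ι (M a *ᵥ v)
  surj : ∀ A B : M3, A * B = 1 → ∃ a ∈ Y₀, M a = A

section
variable {Y₀ E : Subgroup G} {ι : V3 → G} {M : G → M3} (k : Co Y₀ E ι M)
include k
omit [Finite G]

theorem Co.mem (v : V3) : ι v ∈ E := (k.ex _).2 ⟨v, rfl⟩

theorem Co.zero : ι 0 = 1 := by simpa using k.add 0 0

theorem Co.comm {a : G} (ha : a ∈ Y₀) (v : V3) : a * ι v = ι v * a ↔ M a *ᵥ v = v := by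
  rw [← mul_inv_eq_iff_eq_mul, k.conj a ha, k.injι.eq_iff]

theorem Co.inj {a : G} (ha : a ∈ Y₀) {u v : V3} (e : M a *ᵥ u = M a *ᵥ v) : u = v :=
  k.injι ((MulAut.conj a).injective (((k.conj a ha u).trans (congrArg ι e)).trans (k.conj a ha v).symm))

theorem Co.inv {a : G} (ha : a ∈ Y₀) {B : M3} (e : M a * B = 1) : M a⁻¹ = B := by
  rw [← mul_one (M a⁻¹), ← e, ← mul_assoc, ← k.mul _ (inv_mem ha) _ ha, inv_mul_cancel,
    (k.one 1 (one_mem _)).2 (one_mem _), one_mul]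

end

theorem exists_co {Y₀ E : Subgroup G} (hE : E ≤ Y₀) (hn : Y₀ ≤ normalizer (E : Set G)) (hc : Nat.card Y₀ = 1344)
    (cE : Nat.card E = 8) (sq : ∀ e ∈ E, e * e = 1) (cen : Y₀ ⊓ centralizer (E : Set G) ≤ E) :
    ∃ ι M, Co Y₀ E ι M := by
  classical
  let _ : CommGroup E := { (inferInstance : Group E) with
    mul_comm := fun a b => Subtype.ext (GEx.comm_of_sq sq a.2 b.2) }
  let _ : Module (ZMod 2) (Additive E) := AddCommGroup.zmodModule fun x => by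
    rw [two_smul]
    exact Additive.toMul.injective (Subtype.ext (sq _ x.toMul.2))
  have hr : Module.finrank (ZMod 2) (Additive E) = 3 := by
    have h1 := Module.natCard_eq_pow_finrank (K := ZMod 2) (V := Additive E)
    rw [Nat.card_zmod, show Nat.card (Additive E) = 2 ^ 3 from cE] at h1
    exact Nat.pow_right_injective le_rfl h1.symm
  let e : V3 ≃ₗ[ZMod 2] Additive E := LinearEquiv.ofFinrankEq _ _ (by simp [hr])
  obtain ⟨ι, hι, hi, hA⟩ : ∃ ι : V3 → G, (∀ u v, ι (u + v) = ι u * ι v) ∧ Function.Injective ι ∧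
      ∀ a, a ∈ E ↔ ∃ v, ι v = a :=
    ⟨fun v => (e v).toMul, fun u v => by simp only [map_add]; rfl,
      fun u v h => e.injective (Additive.toMul.injective (Subtype.ext h)), fun a =>
        ⟨fun ha => ⟨e.symm (Additive.ofMul ⟨a, ha⟩), by simp⟩, by rintro ⟨v, rfl⟩; exact Subtype.prop _⟩⟩
  obtain ⟨μ, hμ⟩ := CoRec.exists_mu ι hι hi hA
  let ν := μ.comp (inclusion hn)
  have ker : ∀ a : Y₀, ν a = 1 ↔ (a : G) ∈ E := fun a => by
    refine ⟨fun h => cen ⟨a.2, fun b hb => ?_⟩, fun h => Units.ext (Matrix.ext_of_mulVec_single fun i => hi ?_)⟩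
    · obtain ⟨v, rfl⟩ := (hA b).1 hb
      have := hμ (inclusion hn a) v
      rw [show μ (inclusion hn a) = 1 from h, one_smul, mul_inv_eq_iff_eq_mul] at this
      exact this.symm
    · rw [Units.val_one, Matrix.one_mulVec]
      refine (hμ (inclusion hn a) _).symm.trans (mul_inv_eq_iff_eq_mul.2 ?_)
      exact GEx.comm_of_sq sq h ((hA _).2 ⟨_, rfl⟩)
  have c := TW.card_ker ν ker
  rw [hc, inf_eq_right.2 hE, cE] at c
  have sν : ν.range = ⊤ := eq_top_of_card_eq _ (by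
    rw [Matrix.card_GL_field, show Nat.card ν.range = 168 by omega]; simp [Fin.prod_univ_three])
  refine ⟨ι, fun a => if h : a ∈ Y₀ then (ν ⟨a, h⟩ : M3) else 1, hι, hi, hA, fun a ha b hb => ?_, fun a ha => ?_,
    fun a ha v => ?_, fun A B h => ?_⟩
  · rw [dif_pos ha, dif_pos hb, dif_pos (mul_mem ha hb), ← Units.val_mul, ← map_mul]
    rfl
  · rw [dif_pos ha, Units.val_eq_one, ker]
  · rw [dif_pos ha]
    exact hμ (inclusion hn ⟨a, ha⟩) v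
  · obtain ⟨a, e⟩ := sν.ge (mem_top ⟨A, B, h, mul_eq_one_comm.1 h⟩)
    exact ⟨a, a.2, (dif_pos a.2).trans (congrArg Units.val e)⟩

end AF

open AF Matrix in
/-- PROOF. `Y₀ / E` embeds in `MulAut E`, of order 168, so every automorphism of `E` is induced. Fix `1 ≠ s ∈ E`;
`L = Y₀ ⊓ C(s)` has order 192. `P = {a ∈ L | [E, a] ≤ ⟨s⟩}` is the kernel of `L → MulAut (E / ⟨s⟩) ≅ S3` (onto), of
order 32; so `P = O₂(L)`. All involutions of `MulAut E` are conjugate, so every coset `a E` in `P` contains an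
involution `t` (`inv`), and `(t v) ^ 2 = [t, v] ∈ ⟨s⟩`. `Z(P) ≤ C(E) = E`, and the three transvections with centre
`s` fix only `⟨s⟩`. An element of order 3 of `L` permutes transitively the three non-trivial cosets of `⟨s⟩` in `E`
and the three non-trivial cosets of `E` in `P`. -/
theorem af_loc {Y₀ E : Subgroup G} (hE : E ≤ Y₀) (hn : Y₀ ≤ normalizer (E : Set G)) (hc : Nat.card Y₀ = 1344)
    (cE : Nat.card E = 8) (sq : ∀ e ∈ E, e * e = 1) (cen : Y₀ ⊓ centralizer (E : Set G) ≤ E)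
    (inv : ∃ t ∈ Y₀, t ∉ E ∧ t * t = 1) :
    ∃ s ∈ E, ∃ P ≤ Y₀ ⊓ centralizer {s}, ES P s ∧ Nat.card P = 32 ∧ E ≤ P ∧
      (∃ g ∈ Y₀, g * s * g⁻¹ ≠ s) ∧
      (∃ f : (Y₀ ⊓ centralizer {s} : Subgroup G) →* Equiv.Perm (Fin 3), Function.Surjective f ∧
        ∀ a, f a = 1 ↔ (a : G) ∈ P) ∧
      ∀ x ∈ Y₀ ⊓ centralizer {s}, orderOf x = 3 → ∀ b ∈ P, b * x = x * b → b = 1 ∨ b = s := by
  obtain ⟨ι, M, k⟩ := AF.exists_co hE hn hc cE sq cen
  have s2 : ι e0 * ι e0 = 1 := sq _ (k.mem _)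
  have mL : ∀ {a}, a ∈ Y₀ ⊓ centralizer {ι e0} ↔ a ∈ Y₀ ∧ M a *ᵥ e0 = e0 := fun {a} =>
    and_congr_right fun ha => mem_centralizer_singleton_iff.trans (k.comm ha _)
  let _ : MulAction (Y₀ ⊓ centralizer {ι e0} : Subgroup G) (Fin 3) :=
    { smul := fun a i => dec (M a *ᵥ enc i)
      one_smul := fun i => by
        change dec (M 1 *ᵥ enc i) = i
        rw [(k.one 1 (one_mem _)).2 (one_mem _), Matrix.one_mulVec]
        revert i
        decide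
      mul_smul := fun a b i => by
        change dec (M (a * b) *ᵥ enc i) = dec (M a *ᵥ enc (dec (M b *ᵥ enc i)))
        rw [k.mul _ a.2.1 _ b.2.1, ← Matrix.mulVec_mulVec]
        refine (chk1 _ (mL.1 a.2).2 _ (fun e => ?_) fun e => ?_).symm
        · exact absurd (k.inj b.2.1 (e.trans (Matrix.mulVec_zero _).symm)) (by clear e; revert i; decide)
        · exact absurd (k.inj b.2.1 (e.trans (mL.1 b.2).2.symm)) (by clear e; revert i; decide) }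
  let f := MulAction.toPermHom (Y₀ ⊓ centralizer {ι e0} : Subgroup G) (Fin 3)
  have hf : ∀ a i, f a i = dec (M a *ᵥ enc i) := fun _ _ => rfl
  let P := f.ker.map (Subgroup.subtype _)
  have mP : ∀ {a}, a ∈ P ↔ a ∈ Y₀ ∧ ∃ p q, M a = tv p q := fun {a} =>
    ⟨by
      rintro ⟨a, ha, rfl⟩
      exact ⟨a.2.1, chk2 _ (mL.1 a.2).2 fun i => (hf a i).symm.trans (Equiv.congr_fun ha i)⟩,
    fun ⟨ha, p, q, e⟩ => ⟨⟨a, mL.2 ⟨ha, e ▸ (chk3 p q).1⟩⟩, Equiv.ext fun i => by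
      rw [hf, e]; exact (chk3 p q).2.1 i, rfl⟩⟩
  have PL : P ≤ Y₀ ⊓ centralizer {ι e0} := map_subtype_le _
  have EP : E ≤ P := fun a ha => mP.2 ⟨hE ha, 0, 0, ((k.one a (hE ha)).2 ha).trans (by decide)⟩
  have ex : ∀ p q, ∃ a ∈ P, M a = tv p q := fun p q => by
    obtain ⟨a, ha, e⟩ := k.surj _ _ (chk3 p q).2.2.1
    exact ⟨a, mP.2 ⟨ha, p, q, e⟩, e⟩
  have sqP : ∀ x ∈ P, x * x ∈ zpowers (ι e0) := fun x hx => by
    obtain ⟨x1, p, q, e⟩ := mP.1 hx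
    have : ∃ t ∈ Y₀, M t = tv p q ∧ t * t = 1 := by
      by_cases c : tv p q = 1
      · exact ⟨1, one_mem _, ((k.one 1 (one_mem _)).2 (one_mem _)).trans c.symm, one_mul 1⟩
      · obtain ⟨t, ht, t1, t2⟩ := inv
        obtain ⟨⟨A, A'⟩, -, a1, a2⟩ := chk4 (M t) (by rw [← k.mul t ht t ht, t2, (k.one 1 (one_mem _)).2 (one_mem _)])
          fun e => t1 ((k.one t ht).1 e)
        obtain ⟨⟨B, B'⟩, -, b1, b2⟩ := chk4 (tv p q) (chk3 p q).2.2.1 c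
        obtain ⟨a, ha, rfl⟩ := k.surj A A' a1
        obtain ⟨b, hb, rfl⟩ := k.surj B' B (mul_eq_one_comm.1 b1)
        refine ⟨b * a * t * (b * a)⁻¹, mul_mem (mul_mem (mul_mem hb ha) ht) (inv_mem (mul_mem hb ha)), ?_,
          by rw [conj_mul, t2]; simp⟩
        rw [k.mul _ (mul_mem (mul_mem hb ha) ht) _ (inv_mem (mul_mem hb ha)), k.mul _ (mul_mem hb ha) _ ht,
          _root_.mul_inv_rev, k.mul _ (inv_mem ha) _ (inv_mem hb), k.mul _ hb _ ha, k.inv ha a1,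
          k.inv hb (mul_eq_one_comm.1 b1)]
        calc _ = M b * (M a * M t * A') * B := by simp only [mul_assoc]
          _ = M b * B * tv p q * (M b * B) := by rw [a2, ← b2]; simp only [mul_assoc]
          _ = _ := by rw [mul_eq_one_comm.1 b1, one_mul, mul_one]
    obtain ⟨t, ht, t1, t2⟩ := this
    obtain ⟨v, hv⟩ := (k.ex _).1 ((k.one _ (mul_mem (inv_mem ht) x1)).1 (by
      rw [k.mul _ (inv_mem ht) _ x1, e, ← t1, ← k.mul _ (inv_mem ht) _ ht, inv_mul_cancel,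
        (k.one 1 (one_mem _)).2 (one_mem _)]))
    have : x * x = ι (tv p q *ᵥ v + v) := by
      rw [k.add, ← t1, ← k.conj t ht, hv, inv_eq_of_mul_eq_one_right t2]
      calc _ = t * t * x * (t * t) * x := by rw [t2]; group
        _ = _ := by group
    rw [this]
    rcases (chk3 p q).2.2.2 v with c | c <;> rw [c]
    · rw [k.zero]; exact one_mem _
    · exact mem_zpowers _
  have cz : ∀ x ∈ P, x * ι e0 = ι e0 * x := fun x hx => mem_centralizer_singleton_iff.1 (PL hx).2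
  refine ⟨ι e0, k.mem _, P, PL, ⟨EP (k.mem _), fun e => absurd (k.injι (e.trans k.zero.symm)) (by decide), s2, cz,
    fun x hx c => ?_, fun x hx y hy => ?_, fun x hx => (mem_zpowers_of_sq s2).1 (sqP x hx), ?_⟩, ?_, EP, ?_,
    ⟨f, fun τ => ?_, fun a => ⟨fun e => ⟨a, e, rfl⟩, fun ⟨b, hb, e⟩ => Subtype.ext e ▸ hb⟩⟩, fun x hx o b hb c => ?_⟩
  · obtain ⟨v, rfl⟩ := (k.ex _).1 (cen ⟨(PL hx).1, fun y hy => (c y (EP hy)).symm⟩)
    refine (chk5 v fun p q => ?_).imp (fun e => (congrArg ι e).trans k.zero) (congrArg ι)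
    obtain ⟨a, ha, e⟩ := ex p q
    exact e ▸ (k.comm (PL ha).1 v).1 (c a ha).symm
  · have n : P ≤ normalizer ((zpowers (ι e0) : Subgroup G) : Set G) :=
      (PL.trans inf_le_right).trans ((LX.centralizer_zpowers _).ge.trans (LD1.cen_norm _))
    have m := mul_mem (mul_mem (sqP _ (mul_mem hx hy)) (conj_mem_of_normalizes' n hy (sqP _ (inv_mem hx))))
      (sqP _ (inv_mem hy))
    refine ((mem_zpowers_of_sq s2).1 m).imp (fun e => ?_) fun e => ?_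
    · rw [← one_mul (y * x), ← e]
      group
    · rw [cz _ (mul_mem hy hx), ← e]
      group
  · obtain ⟨a, ha, e⟩ := ex 1 0
    exact ⟨a, ha, ι (enc 0), EP (k.mem _), fun c => absurd (e ▸ (k.comm (PL ha).1 _).1 c) (by decide)⟩
  · let φ : P →* Multiplicative (ZMod 2 × ZMod 2) :=
      MonoidHom.mk' (fun a => Multiplicative.ofAdd (M a 0 1, M a 0 2)) fun a b => by
        obtain ⟨a1, p, q, e⟩ := mP.1 a.2
        obtain ⟨b1, p', q', e'⟩ := mP.1 b.2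
        rw [coe_mul, k.mul _ a1 _ b1, e, e']
        clear e e'
        revert p q p' q'
        decide
    have c := TW.card_ker (A := E) φ fun a => by
      obtain ⟨a1, p, q, e⟩ := mP.1 a.2
      rw [← k.one _ a1]
      change Multiplicative.ofAdd (M a 0 1, M a 0 2) = 1 ↔ _
      rw [e]
      clear e
      revert p q
      decide
    rw [c, inf_eq_right.2 EP, cE, MonoidHom.range_eq_top.2 fun w => ?_, card_top]
    · simp
    · obtain ⟨a, ha, e⟩ := ex w.toAdd.1 w.toAdd.2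
      refine ⟨⟨a, ha⟩, ?_⟩
      change Multiplicative.ofAdd (M a 0 1, M a 0 2) = w
      rw [e]
      rfl
  · obtain ⟨a, ha, e⟩ := k.surj !![0, 1, 0; 1, 0, 0; 0, 0, 1] !![0, 1, 0; 1, 0, 0; 0, 0, 1] (by decide)
    exact ⟨a, ha, fun c => absurd (e ▸ k.injι ((k.conj a ha _).symm.trans c)) (by decide)⟩
  · obtain ⟨⟨A, A'⟩, -, a1, a2, a3⟩ := chk6 τ
    obtain ⟨a, ha, rfl⟩ := k.surj A A' a1
    exact ⟨⟨a, mL.2 ⟨ha, a2⟩⟩, Equiv.ext a3⟩
  · obtain ⟨b1, p, q, e⟩ := mP.1 hb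
    have x3 : x * x * x = 1 := by rw [← pow_orderOf_eq_one x, o, pow_three']
    obtain ⟨c1, c2⟩ := chk7 (M x) (mL.1 hx).2 (by
      rw [← k.mul _ hx.1 _ hx.1, ← k.mul _ (mul_mem hx.1 hx.1) _ hx.1, x3, (k.one 1 (one_mem _)).2 (one_mem _)])
      fun e => by
        rw [sq x ((k.one x hx.1).1 e), one_mul] at x3
        rw [x3, orderOf_one] at o
        exact absurd o (by decide)
    obtain ⟨v, rfl⟩ := (k.ex _).1 ((k.one b b1).1 (e.trans (c2 p q (by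
      rw [← e, ← k.mul _ b1 _ hx.1, c, k.mul _ hx.1 _ b1]))))
    exact (c1 v ((k.comm hx.1 v).1 c.symm)).imp (fun e => (congrArg ι e).trans k.zero) (congrArg ι)

/-- PROOF. Apply `S3344` in the group `Y` (`af_loc`; `C_Y(s) = C_{Y₀}(s)`). In the first case `|Y| = 8 * 168`, so
`Y = Y₀`. `|M12|` is not divisible by 7. Otherwise `af_alt` for conjugation by `i`. -/
theorem af {Y Y₀ E : Subgroup G} {i : G} (hY : Y₀ ≤ Y) (hE : E ≤ Y₀) (hn : Y₀ ≤ normalizer (E : Set G))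
    (hc : Nat.card Y₀ = 1344) (cE : Nat.card E = 8) (sq : ∀ e ∈ E, e * e = 1)
    (cen : Y₀ ⊓ centralizer (E : Set G) ≤ E) (inv : ∃ t ∈ Y₀, t ∉ E ∧ t * t = 1)
    (cY : ∀ e ∈ E, e ≠ 1 → Y ⊓ centralizer {e} ≤ Y₀) (hi : i ∈ normalizer (Y : Set G)) (i2 : i * i = 1)
    (i0 : ∀ a ∈ Y₀, i * a = a * i) : ∀ a ∈ Y, i * a = a * i := by
  have : Fact (Nat.Prime 2) := ⟨Nat.prime_two⟩
  have : Fact (Nat.Prime 3) := ⟨Nat.prime_three⟩
  have c0 : Nat.card (Y₀.subgroupOf Y) = 1344 := (Nat.card_congr (subgroupOfEquivOfLe hY).toEquiv).trans hc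
  obtain ⟨t, t0, t1, t2⟩ := inv
  obtain ⟨s, hs, P, PL, es, cP, EP, ⟨g, g0, hg⟩, ⟨f, sf, kf⟩, fpf⟩ := af_loc (Y₀ := Y₀.subgroupOf Y)
    (E := E.subgroupOf Y) (comap_mono hE)
    (fun a ha => mem_normalizer_fintype fun b hb => conj_mem_of_normalizes hn ha hb) c0
    ((Nat.card_congr (subgroupOfEquivOfLe (hE.trans hY)).toEquiv).trans cE) (fun e he => Subtype.ext (sq e he))
    (fun a ha => cen ⟨ha.1, fun b hb => congrArg Subtype.val (ha.2 ⟨b, hY (hE hb)⟩ hb)⟩)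
    ⟨⟨t, hY t0⟩, t0, t1, Subtype.ext t2⟩
  have e : pCore 2 (Y₀.subgroupOf Y ⊓ centralizer {s} : Subgroup Y) = f.ker := by
    refine le_antisymm (fun x hx => by_contra fun c => ?_) (le_sSup ⟨inferInstance, isPGroup_iff_forall_mem.2
      fun x hx => ⟨2, Subtype.ext (es.pow_four ((kf x).1 hx))⟩⟩)
    obtain ⟨τ, h1, h2⟩ := (by decide +kernel : ∀ x : Equiv.Perm (Fin 3), x ≠ 1 →
      ∃ g, (g * x * g⁻¹ * x) ^ 3 = 1 ∧ g * x * g⁻¹ * x ≠ 1) (f x) c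
    obtain ⟨a, rfl⟩ := sf τ
    obtain ⟨n, h3⟩ := isPGroup_iff_forall_mem.1 (isPGroup_pCore 2 _) _
      (mul_mem ((pCore_normal 2 _).conj_mem x hx a) hx)
    refine h2 (mem_bot.1 (TW.of_coprime (Nat.Coprime.pow_right n (by decide : Nat.Coprime 3 2)) (mem_bot.2 h1)
      (mem_bot.2 ?_)))
    simpa using congrArg f h3
  have eP : P = (pCore 2 (Y₀.subgroupOf Y ⊓ centralizer {s} : Subgroup Y)).map (Subgroup.subtype _) := by
    rw [e]
    exact le_antisymm (fun x hx => ⟨⟨x, PL hx⟩, (kf _).2 hx, rfl⟩) (by rintro _ ⟨x, hx, rfl⟩; exact (kf x).1 hx)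
  obtain ⟨X⟩ := (inferInstance : Nonempty (Sylow 3 (Y₀.subgroupOf Y ⊓ centralizer {s} : Subgroup Y)))
  obtain ⟨x, hx⟩ := exists_prime_orderOf_dvd_card' (G := X) 3 (X.dvd_card_of_dvd_card
    ((by rw [Nat.card_perm, Nat.card_fin]; decide : 3 ∣ Nat.card (Equiv.Perm (Fin 3))).trans
      (card_dvd_of_surjective f sf)))
  have key : ∀ {n : ℕ}, n = 8 ∨ n = 9 → Nonempty (Y ≃* alternatingGroup (Fin n)) → ∀ a ∈ Y, i * a = a * i :=
    fun h ⟨φ⟩ a ha => by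
      have := af_alt h (Y₀ := (Y₀.subgroupOf Y).map φ.toMonoidHom) ((card_map_of_injective φ.injective).trans c0)
        (MulAut.congr φ (Y.normalizerMonoidHom ⟨i, hi⟩))
        (by rw [← map_mul, ← map_mul, show (⟨i, hi⟩ * ⟨i, hi⟩ : normalizer (Y : Set G)) = 1 from Subtype.ext i2,
          map_one, map_one]) (by
          rintro _ ⟨b, hb, rfl⟩
          change φ (Y.normalizerMonoidHom ⟨i, hi⟩ (φ.symm (φ b))) = φ b
          rw [φ.symm_apply_apply]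
          exact congrArg φ (Subtype.ext (mul_inv_eq_iff_eq_mul.2 (i0 b hb))))
      rw [MulEquiv.map_eq_one_iff] at this
      exact mul_inv_eq_iff_eq_mul.1 (congrArg Subtype.val (MulEquiv.congr_fun this ⟨a, ha⟩))
  rcases Cfsg.Agent.S3344.result s es.orderOf_z (Y₀.subgroupOf Y ⊓ centralizer {s})
    (inf_eq_right.2 fun a ha => cY s hs (fun c => es.z_ne (Subtype.ext c)) ⟨a.2, mem_centralizer_singleton_iff.2
      (congrArg Subtype.val (mem_centralizer_singleton_iff.1 ha))⟩) P eP es.isExtraspecial cP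
    ((QuotientGroup.quotientMulEquivOfEq e).trans (QuotientGroup.quotientKerEquivOfSurjective f sf)) X
    (le_antisymm (fun b hb => es.mem_zpowers_iff.2 (fpf _ x.1.2 (by simpa using hx) b hb.1
      (hb.2 _ ⟨x.1, x.2, rfl⟩).symm)) (zpowers_le.2 ⟨es.z_mem, by
        rintro _ ⟨b, -, rfl⟩; exact mem_centralizer_singleton_iff.1 b.2.2⟩))
    ⟨g, EP (conj_mem_of_normalizes hn g0 hs), hg⟩ with ⟨N, _, -, -, c1, ⟨φ⟩⟩ | h | h | ⟨⟨φ⟩⟩
  · have c2 := card_eq_card_quotient_mul_card_subgroup N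
    rw [c1, Nat.card_congr φ.toEquiv, L3.card_L32] at c2
    rwa [← eq_of_le_of_card_ge hY (by omega)]
  · exact key (Or.inl rfl) h
  · exact key (Or.inr rfl) h
  · have c2 := card_dvd_of_le hY
    rw [hc, Nat.card_congr φ.toEquiv, MathMdl.card_M12] at c2
    exact absurd c2 (by decide)

end CL.VM
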