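/- The subgroups of `M24` and the families of subsets used for types T and C: definitions. -/
import Cfsg.Agent.SPOR.VM.Base
import Cfsg.Agent.SPOR.VM.LDef
import Cfsg.Agent.SPOR.GolayTrioGrp

set_option autoImplicit false

namespace CL.VM
open Subgroup Cfsg Cfsg.Spor CL.Golay
open CL.MAut (Pm)
open scoped Pointwise symmDiff

/-! ### type T -/

/-- the sextet group -/
noncomputable abbrev Sex : Subgroup Pm := M24 ⊓ MulAction.stabilizer Pm (sex T4)
/-- its largest normal 2-subgroup -/
noncomputable abbrev X6 : Subgroup Pm := grp gSexO2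
/-- the masks of the six tetrads -/
def tetM : Fin 6 → ℕ := ![147496, 268544, 1082880, 2621632, 4268048, 8388615]
/-- the six tetrads -/
noncomputable def tet (i : Fin 6) : Finset GolayPt := E.setOf (tetM i)
/-- the parity of a set on a tetrad -/
noncomputable def par (s : Finset GolayPt) (i : Fin 6) : ZMod 2 := ((s ∩ tet i).card : ZMod 2)
/-- equal parity on all tetrads -/
def EqP (s : Finset GolayPt) : Prop := ∀ i j, par s i = par s j
/-- the class of `∅` or of the tetrad `T4` -/
def Zt (s : Finset GolayPt) : Prop := s ∈ Code ∨ s ∆ E.setOf T4 ∈ Code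
open Classical in
/-- the permutation of the tetrads -/
noncomputable def σ0 (g : Pm) : Equiv.Perm (Fin 6) :=
  if h : ∃ τ : Equiv.Perm (Fin 6), ∀ i, g • tet i = tet (τ i) then h.choose else 1
/-- an element of order 3 that fixes every tetrad -/
noncomputable def y0 : Pm := pm 5449130480366048776612061589756962

/-! ### type C -/

/-- the octads of the trio -/
noncomputable def oc (i : Fin 3) : Finset GolayPt := E.setOf (trOc i)
/-- the octad group -/
noncomputable abbrev Oct : Subgroup Pm := M24 ⊓ MulAction.stabilizer Pm (oc 0)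
/-- its largest normal 2-subgroup -/
noncomputable abbrev X4 : Subgroup Pm := Fix (oc 0)
/-- the group fixing the three octads -/
noncomputable abbrev T0 : Subgroup Pm := M24 ⊓ MulAction.stabilizer Pm (oc 0) ⊓ MulAction.stabilizer Pm (oc 1)
/-- generators of its largest normal 2-subgroup -/
def gT6 : List ℕ := [5982887659023704440996624878057591, 15117335252818615994979033626490999,
  16210249377428363723688706441263223, 19963417430351227261161954154166391, 47521257928566290314400023806220003,
  89059644760354715286510481426668718]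
/-- the largest normal 2-subgroup of the trio group -/
noncomputable abbrev T6 : Subgroup Pm := grp gT6
/-- code words that contain or avoid the first octad -/
def Wc (s : Finset GolayPt) : Prop := s ∈ Code ∧ (s ∩ oc 0 = ∅ ∨ s ∩ oc 0 = oc 0)
/-- the class of `∅` or of the first octad -/
def Zc (s : Finset GolayPt) : Prop := s ∈ K1 ∨ s ∆ oc 0 ∈ K1
/-- the class of `∅` or of an octad of the trio -/
def Uc (s : Finset GolayPt) : Prop := s ∈ K1 ∨ ∃ i, s ∆ oc i ∈ K1
/-- the code words centralised by `T6` modulo `Uc` -/
def V8 (s : Finset GolayPt) : Prop := s ∈ Code ∧ ∀ t ∈ T6, Uc ((t • s) ∆ s)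
/-- an element of `X4` that exchanges the second and third octad -/
noncomputable def i0 : Pm := pm 963721886883755259286232606933354528

variable {G : Type*} [Group G]

/-- type T: the subgroup `Q` -/
structure TQ (V Q : Subgroup G) (θ : Finset GolayPt → G) (π : G → Pm) (y : G) : Prop where
  le : ∀ a ∈ Q, a ∈ normalizer (V : Set G) ∧ π a ∈ X6
  surj : ∀ x ∈ X6, ∃ a ∈ Q, π a = x
  θ_iff : ∀ s, Even s.card → (θ s ∈ Q ↔ EqP s)
  yN : y ∈ normalizer (V : Set G)
  πy : π y = y0
  y3 : y ^ 3 = 1
  HQ : Hz V (θ (E.setOf T4)) ≤ normalizer (Q : Set G)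
  sq : ∀ a ∈ Q, a * a ∈ zpowers (θ (E.setOf T4))

/-- type C: `A` consists of the `θ s * χ x` with `P s`, `x ∈ K` -/
def SD (θ : Finset GolayPt → G) (χ : M24 →* G) (P : Finset GolayPt → Prop) (K : Subgroup Pm) (A : Subgroup G) :
    Prop :=
  ∀ a, a ∈ A ↔ ∃ s, P s ∧ ∃ x : M24, (x : Pm) ∈ K ∧ a = θ s * χ x

end CL.VM
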